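import Cfsg.Agent.Lib.Chars.Completeness
import Cfsg.Agent.Lib.Chars.Induced
import Cfsg.Agent.Lib.Chars.Ops

/-!
# Regular wreath products of M-groups by groups of prime order
-/

set_option autoImplicit false

namespace Cfsg.Agent.Lib.MGroup

open Cfsg Cfsg.Agent.Lib
open scoped ComplexConjugate

universe u

/-- All irreducible characters are induced from linear ones. -/
def IsMonomialGroup (M : Type u) [Group M] [Fintype M] : Prop :=
  ∀ χ : M → ℂ, IsIrrCharacter M χ →
    ∃ (H : Subgroup M) (lam : ↥H →* ℂˣ), χ = indFun H (fun h => (lam h : ℂ))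

variable {A Q : Type u} [Group A] [Group Q]

/-- The base functions inside the wreath product. -/
def baseSub (H : Q → Subgroup A) : Subgroup (RegularWreathProduct A Q) where
  carrier := {w | w.right = 1 ∧ ∀ i, w.left i ∈ H i}
  one_mem' := ⟨rfl, fun i => (H i).one_mem⟩
  mul_mem' := by
    rintro a b ⟨ha, ha'⟩ ⟨hb, hb'⟩
    refine ⟨by simp [ha, hb], fun i => ?_⟩
    simpa [ha] using (H i).mul_mem (ha' i) (hb' i)
  inv_mem' := by
    rintro a ⟨ha, ha'⟩
    refine ⟨by simp [ha], fun i => ?_⟩
    simpa [ha] using (H i).inv_mem (ha' i)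

/-- The base functions with values in `H`, extended by the top group. -/
def topSub (H : Subgroup A) : Subgroup (RegularWreathProduct A Q) where
  carrier := {w | ∀ i, w.left i ∈ H}
  one_mem' := fun _ => H.one_mem
  mul_mem' := by
    intro a b ha hb i
    simpa using H.mul_mem (ha i) (hb _)
  inv_mem' := by
    intro a ha i
    simpa using H.inv_mem (ha _)

theorem card_baseSub [Fintype Q] (H : Q → Subgroup A) :
    Nat.card (baseSub H) = ∏ i, Nat.card (H i) := by
  rw [← Nat.card_pi]
  exact Nat.card_congr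
    { toFun := fun w i => ⟨w.1.left i, w.2.2 i⟩
      invFun := fun f => ⟨⟨fun i => f i, 1⟩, rfl, fun i => (f i).2⟩
      left_inv := fun w => Subtype.ext (RegularWreathProduct.ext rfl w.2.1.symm)
      right_inv := fun f => rfl }

theorem card_topSub [Fintype Q] (H : Subgroup A) :
    Nat.card (topSub (Q := Q) H) = Nat.card Q * Nat.card H ^ Nat.card Q := by
  rw [← Nat.card_fun, ← Nat.card_prod]
  exact Nat.card_congr
    { toFun := fun w => (w.1.right, fun i => ⟨w.1.left i, w.2 i⟩)
      invFun := fun f => ⟨⟨fun i => f.2 i, f.1⟩, fun i => (f.2 i).2⟩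
      left_inv := fun w => rfl
      right_inv := fun f => rfl }

/-- Product of linear characters on the base. -/
def baseHomChar [Fintype Q] (H : Q → Subgroup A) (lam : ∀ i, H i →* ℂˣ) :
    ↥(baseSub H) →* ℂˣ where
  toFun w := ∏ i, lam i ⟨w.1.left i, w.2.2 i⟩
  map_one' := Finset.prod_eq_one fun i _ => map_one (lam i)
  map_mul' a b := by
    rw [← Finset.prod_mul_distrib]
    refine Finset.prod_congr rfl fun i _ => ?_
    rw [← map_mul]
    congr 1
    apply Subtype.ext
    simp [a.2.1]

/-- The extension of a product character by a character of the top group. -/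
def topHomChar [Fintype Q] (H : Subgroup A) (lam : H →* ℂˣ) (ν : Q →* ℂˣ) :
    ↥(topSub (Q := Q) H) →* ℂˣ where
  toFun w := (∏ i, lam ⟨w.1.left i, w.2 i⟩) * ν w.1.right
  map_one' := by
    simp only [OneMemClass.coe_one, RegularWreathProduct.one_left, RegularWreathProduct.one_right,
      map_one, mul_one]
    exact Finset.prod_eq_one fun i _ => map_one lam
  map_mul' a b := by
    show (∏ i, lam ⟨_, _⟩) * ν (a.1.right * b.1.right) = _
    rw [map_mul, mul_mul_mul_comm]
    congr 1
    have hb : ∏ i, lam ⟨b.1.left i, b.2 i⟩ = ∏ i, lam ⟨b.1.left (a.1.right⁻¹ * i), b.2 _⟩ :=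
      (Fintype.prod_equiv (Equiv.mulLeft a.1.right⁻¹) _ _ fun i => rfl).symm
    rw [hb, ← Finset.prod_mul_distrib]
    exact Finset.prod_congr rfl fun i _ => by rw [← map_mul]; rfl

variable [Fintype A] [Fintype Q] [Fintype (RegularWreathProduct A Q)]

open Classical in
theorem sum_wreath {M : Type*} [AddCommMonoid M] (F : RegularWreathProduct A Q → M) :
    ∑ w, F w = ∑ q : Q, ∑ f : Q → A, F ⟨f, q⟩ := by
  classical
  rw [Finset.sum_comm, ← Fintype.sum_prod_type']
  exact Fintype.sum_equiv (RegularWreathProduct.equivProd A Q) _ _ fun w => rfl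

open Classical in
theorem extendByZero_baseHomChar (H : Q → Subgroup A) (lam : ∀ i, H i →* ℂˣ)
    (w : RegularWreathProduct A Q) :
    extendByZero (baseSub H) (fun h => (baseHomChar H lam h : ℂ)) w =
      if w.right = 1 then ∏ i, extendByZero (H i) (fun h => (lam i h : ℂ)) (w.left i) else 0 := by
  by_cases hm : w ∈ baseSub H
  · rw [Chars.extendByZero_of_mem _ hm, if_pos hm.1]
    simp only [baseHomChar, MonoidHom.coe_mk, OneHom.coe_mk, Units.coe_prod]
    exact Finset.prod_congr rfl fun i _ => (Chars.extendByZero_of_mem (fun h : H i => (lam i h : ℂ)) (hm.2 i)).symm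
  · rw [Chars.extendByZero_of_not_mem _ hm]
    split_ifs with h
    · obtain ⟨i, hi⟩ : ∃ i, w.left i ∉ H i := not_forall.mp fun h' => hm ⟨h, h'⟩
      exact (Finset.prod_eq_zero (f := fun i => extendByZero (H i) (fun h => (lam i h : ℂ)) (w.left i))
        (Finset.mem_univ i) (Chars.extendByZero_of_not_mem _ hi)).symm
    · rfl

/-- The function on `A ≀ Q` induced from the product `θ` on the base. -/
noncomputable def indBase (θ : Q → A → ℂ) : RegularWreathProduct A Q → ℂ := by
  classical
  exact fun g => if g.right = 1 then ∑ q, ∏ i, θ i (g.left (q * i)) else 0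

theorem indFun_baseHomChar (H : Q → Subgroup A) (lam : ∀ i, H i →* ℂˣ) :
    indFun (baseSub H) (fun h => (baseHomChar H lam h : ℂ)) =
      indBase fun i => indFun (H i) (fun h => (lam i h : ℂ)) := by
  classical
  funext g
  simp only [indFun, indBase, extendByZero_baseHomChar, card_baseSub, Nat.cast_prod]
  rw [sum_wreath]
  by_cases hg : g.right = 1
  · rw [if_pos hg, Finset.mul_sum]
    refine Finset.sum_congr rfl fun q _ => ?_
    rw [Finset.prod_mul_distrib, Finset.prod_inv_distrib]
    congr 1
    rw [Fintype.prod_sum]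
    refine Fintype.sum_equiv (Equiv.arrowCongr (Equiv.mulLeft q).symm (Equiv.refl A))
      (fun f : Q → A => _) _ fun f => ?_
    rw [if_pos (by simp [hg])]
    refine Finset.prod_congr rfl fun i _ => ?_
    congr 1
    simp [hg, mul_assoc]
  · rw [if_neg hg]
    refine mul_eq_zero_of_right _ (Finset.sum_eq_zero fun q _ => Finset.sum_eq_zero fun f _ => ?_)
    refine if_neg fun h => hg ?_
    have h' : q⁻¹ * g.right * q = 1 := by simpa using h
    calc g.right = q * (q⁻¹ * g.right * q) * q⁻¹ := by group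
      _ = 1 := by rw [h']; simp

open Classical in
theorem classInner_indBase_self (θ : Q → IrrCharacter A) :
    classInner (indBase fun i => ((θ i : A → ℂ))) (indBase fun i => ((θ i : A → ℂ))) =
      (Nat.card Q : ℂ)⁻¹ *
        ∑ q : Q, ∑ r : Q, if (∀ i, θ (q⁻¹ * i) = θ (r⁻¹ * i)) then (1 : ℂ) else 0 := by
  have hre : ∀ (q : Q) (f : Q → A), ∏ i, (θ i : A → ℂ) (f (q * i)) =
      ∏ j, (θ (q⁻¹ * j) : A → ℂ) (f j) := fun q f =>
    Fintype.prod_equiv (Equiv.mulLeft q) _ _ fun i => by simp
  have hin : ∀ a b : IrrCharacter A, ∑ x : A, (a : A → ℂ) x * conj ((b : A → ℂ) x) =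
      (Nat.card A : ℂ) * if a = b then 1 else 0 := by
    intro a b
    have h := Chars.classInner_irr a b
    simp only [classInner] at h
    rw [← h, ← mul_assoc, mul_inv_cancel₀ (Nat.cast_ne_zero.mpr Nat.card_pos.ne'), one_mul]
  rw [classInner, sum_wreath, Finset.sum_eq_single (1 : Q)]
  rotate_left
  · intro q _ hq
    exact Finset.sum_eq_zero fun f _ => by simp [indBase, hq]
  · simp
  simp only [indBase, if_true, hre, map_sum, map_prod, Finset.sum_mul_sum, ← Finset.prod_mul_distrib]
  rw [Finset.sum_comm, RegularWreathProduct.card, Finset.mul_sum, Finset.mul_sum]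
  refine Finset.sum_congr rfl fun q _ => ?_
  rw [Finset.sum_comm, Finset.mul_sum, Finset.mul_sum]
  refine Finset.sum_congr rfl fun r _ => ?_
  rw [← Fintype.prod_sum (fun j x => (θ (q⁻¹ * j) : A → ℂ) x * conj ((θ (r⁻¹ * j) : A → ℂ) x))]
  simp only [hin, Finset.prod_mul_distrib, Finset.prod_const, Finset.card_univ,
    Fintype.card_eq_nat_card, Finset.prod_boole, Finset.mem_univ, true_implies]
  push_cast
  have hA : (Nat.card A : ℂ) ≠ 0 := Nat.cast_ne_zero.mpr Nat.card_pos.ne'
  field_simp

theorem exists_tuple {χ : RegularWreathProduct A Q → ℂ}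
    (hχ : IsIrrCharacter (RegularWreathProduct A Q) χ) :
    ∃ θ : Q → IrrCharacter A, classInner (indBase fun i => (θ i : A → ℂ)) χ ≠ 0 := by
  classical
  have hcl := Chars.irr_isClassFunction (⟨χ, hχ⟩ : IrrCharacter (RegularWreathProduct A Q))
  have hshift : ∀ (q : Q) (f : Q → A), χ ⟨fun i => f (q * i), 1⟩ = χ ⟨f, 1⟩ := by
    intro q f
    have h := hcl ⟨f, 1⟩ ⟨1, q⁻¹⟩
    convert h using 2
    ext i <;> simp
  obtain ⟨θ, hθ⟩ : ∃ θ : Q → IrrCharacter A,
      ∑ f : Q → A, (∏ i, (θ i : A → ℂ) (f i)) * conj (χ ⟨f, 1⟩) ≠ 0 := by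
    by_contra h0
    push Not at h0
    let δ : A → ℂ := fun a => if a = 1 then 1 else 0
    have hδcl : IsClassFunction A δ := fun g h => by
      simp only [δ]
      congr 1
      exact propext conj_eq_one_iff
    have hδ : ∀ a, δ a = ∑ φ : IrrCharacter A, classInner δ (φ : A → ℂ) * (φ : A → ℂ) a :=
      fun a => Chars.isClassFunction_apply_eq_sum_classInner hδcl a
    have h1 : ∑ f : Q → A, (∏ i, δ (f i)) * conj (χ ⟨f, 1⟩) = conj (χ 1) := by
      rw [Finset.sum_eq_single (1 : Q → A)]
      · simp [δ]; rfl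
      · intro f _ hf
        obtain ⟨i, hi⟩ := Function.ne_iff.mp hf
        rw [Finset.prod_eq_zero (Finset.mem_univ i) (if_neg hi), zero_mul]
      · simp
    have h2 : ∑ f : Q → A, (∏ i, δ (f i)) * conj (χ ⟨f, 1⟩) = 0 := by
      simp only [hδ, Fintype.prod_sum, Finset.sum_mul, Finset.prod_mul_distrib, mul_assoc]
      rw [Finset.sum_comm]
      refine Finset.sum_eq_zero fun T _ => ?_
      rw [← Finset.mul_sum, h0 T, mul_zero]
    exact Chars.irr_apply_one_ne_zero (⟨χ, hχ⟩ : IrrCharacter (RegularWreathProduct A Q))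
      ((map_eq_zero (starRingEnd ℂ)).mp (h1.symm.trans h2))
  refine ⟨θ, ?_⟩
  rw [classInner, sum_wreath, Finset.sum_eq_single (1 : Q)]
  rotate_left
  · intro q _ hq
    exact Finset.sum_eq_zero fun f _ => by simp [indBase, hq]
  · simp
  simp only [indBase, if_true, Finset.sum_mul]
  rw [Finset.sum_comm]
  have h3 : ∀ q : Q, ∑ f : Q → A, (∏ i, (θ i : A → ℂ) (f (q * i))) * conj (χ ⟨f, 1⟩) =
      ∑ f : Q → A, (∏ i, (θ i : A → ℂ) (f i)) * conj (χ ⟨f, 1⟩) := fun q =>
    Fintype.sum_equiv (Equiv.arrowCongr (Equiv.mulLeft q).symm (Equiv.refl A)) _ _ fun f => by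
      rw [← hshift q f]; rfl
  rw [Finset.sum_congr rfl fun q _ => h3 q, Finset.sum_const, Finset.card_univ, nsmul_eq_mul]
  exact mul_ne_zero (inv_ne_zero Chars.natCard_ne_zero)
    (mul_ne_zero (Nat.cast_ne_zero.mpr Fintype.card_ne_zero) hθ)

theorem sum_hom_apply [IsMulCommutative Q] [Fintype (Q →* ℂˣ)] [DecidableEq Q] (q : Q) :
    ∑ ν : Q →* ℂˣ, (ν q : ℂ) = if q = 1 then (Nat.card Q : ℂ) else 0 := by
  classical
  rw [← Chars.sum_degree_mul_irr q]
  have hbij : Function.Bijective (Chars.linIrr (G := Q)) := by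
    refine ⟨Chars.linIrr_injective, fun χ => ?_⟩
    obtain ⟨φ, hφ⟩ := Chars.exists_hom_of_degree_one (Chars.irr_isCharacter χ)
      (Chars.irr_apply_one_of_comm χ)
    exact ⟨φ, Subtype.ext hφ.symm⟩
  refine Fintype.sum_equiv (Equiv.ofBijective _ hbij) _ _ fun ν => ?_
  simp [Chars.linIrr]

/-- A wreath product of an M-group by a group of prime order is an M-group. -/
theorem isMonomialGroup_wreath {p : ℕ} [hp : Fact p.Prime] (hQ : Nat.card Q = p)
    (hA : IsMonomialGroup A) : IsMonomialGroup (RegularWreathProduct A Q) := by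
  classical
  intro χ hχ
  have hcl := Chars.irr_isClassFunction (⟨χ, hχ⟩ : IrrCharacter (RegularWreathProduct A Q))
  obtain ⟨θ, hθ⟩ := exists_tuple hχ
  have hmon : ∀ φ : IrrCharacter A, ∃ (H : Subgroup A) (lam : ↥H →* ℂˣ),
      (φ : A → ℂ) = indFun H (fun h => (lam h : ℂ)) := fun φ => hA _ φ.2
  choose Hc lc hc using hmon
  have hind : indBase (fun i => (θ i : A → ℂ)) = indFun (baseSub fun i => Hc (θ i))
      (fun h => (baseHomChar (fun i => Hc (θ i)) (fun i => lc (θ i)) h : ℂ)) := by
    rw [indFun_baseHomChar]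
    congr 1
    funext i
    exact hc (θ i)
  have hcomm : IsMulCommutative Q := by
    have := isCyclic_of_prime_card hQ
    exact ⟨⟨fun a b => IsCyclic.commGroup.mul_comm a b⟩⟩
  have hirr_eq : ∀ ψ : RegularWreathProduct A Q → ℂ, IsIrrCharacter (RegularWreathProduct A Q) ψ →
      classInner ψ χ ≠ 0 → χ = ψ := by
    intro ψ hψ hne
    by_contra h
    exact hne (Chars.classInner_irr_of_ne (χ := ⟨ψ, hψ⟩) (ψ := ⟨χ, hχ⟩)
      fun e => h (congrArg Subtype.val e).symm)
  have hnorm := classInner_indBase_self θ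
  by_cases hconst : ∀ i, θ i = θ 1
  · -- invariant case
    generalize hφ : θ 1 = φ at hconst
    have hθ' : θ = fun _ => φ := funext hconst
    subst hθ'
    clear hφ
    have : Fintype (Q →* ℂˣ) := Fintype.ofFinite _
    set H := Hc φ
    set lam := lc φ
    let ψ : (Q →* ℂˣ) → RegularWreathProduct A Q → ℂ := fun ν =>
      indFun (topSub H) (fun h => (topHomChar H lam ν h : ℂ))
    have hchar : ∀ ν, IsCharacter (RegularWreathProduct A Q) (ψ ν) := fun ν =>
      Chars.isCharacter_indFun _ (Chars.isCharacter_hom _)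
    have hsum : ∑ ν, ψ ν = indBase (fun _ => (φ : A → ℂ)) := by
      rw [hind]
      funext g
      simp only [Finset.sum_apply, ψ, indFun, ← Finset.mul_sum]
      rw [Finset.sum_comm, card_topSub, card_baseSub, Finset.prod_const, Finset.card_univ,
        Fintype.card_eq_nat_card]
      have key : ∀ y : RegularWreathProduct A Q,
          ∑ ν : Q →* ℂˣ, extendByZero (topSub H) (fun h => (topHomChar H lam ν h : ℂ)) y =
          (Nat.card Q : ℂ) * extendByZero (baseSub fun _ => H)
            (fun h => (baseHomChar (fun _ => H) (fun _ => lam) h : ℂ)) y := by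
        intro y
        rw [extendByZero_baseHomChar]
        by_cases hy : y ∈ topSub H
        · simp only [Chars.extendByZero_of_mem _ hy, topHomChar, MonoidHom.coe_mk, OneHom.coe_mk,
            Units.val_mul, Units.coe_prod, ← Finset.mul_sum, sum_hom_apply]
          split_ifs with h
          · rw [mul_comm]
            congr 1
            exact Finset.prod_congr rfl fun i _ => (Chars.extendByZero_of_mem (fun h : H => (lam h : ℂ)) (hy i)).symm
          · simp
        · simp only [Chars.extendByZero_of_not_mem _ hy, Finset.sum_const_zero]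
          split_ifs with h
          · obtain ⟨i, hi⟩ : ∃ i, y.left i ∉ H := not_forall.mp hy
            rw [Finset.prod_eq_zero (f := fun i => extendByZero H (fun h => (lam h : ℂ)) (y.left i))
              (Finset.mem_univ i) (Chars.extendByZero_of_not_mem _ hi), mul_zero]
          · simp
      simp only [key, ← Finset.mul_sum]
      rw [← mul_assoc]
      congr 1
      push_cast
      have : (Nat.card Q : ℂ) ≠ 0 := Nat.cast_ne_zero.mpr Nat.card_pos.ne'
      field_simp
      rfl
    have hnQ : (Nat.card (Q →* ℂˣ) : ℂ) = Nat.card Q := by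
      have h := sum_hom_apply (Q := Q) 1
      simp only [map_one, Units.val_one, Finset.sum_const, Finset.card_univ, nsmul_eq_mul,
        mul_one, if_true] at h
      rwa [Fintype.card_eq_nat_card] at h
    choose k hk using fun ν μ => Chars.isCharacter_classInner_nat (hchar ν) (hchar μ)
    have hk1 : ∀ ν, 1 ≤ k ν ν := by
      intro ν
      rcases Nat.eq_zero_or_pos (k ν ν) with h0 | h0
      · exfalso
        have h := hk ν ν
        rw [h0, Nat.cast_zero, classInner, mul_eq_zero] at h
        have h := h.resolve_left (inv_ne_zero Chars.natCard_ne_zero)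
        simp only [Complex.mul_conj, ← Complex.ofReal_sum, Complex.ofReal_eq_zero] at h
        have h1 := (Finset.sum_eq_zero_iff_of_nonneg fun x _ => Complex.normSq_nonneg _).mp h 1
          (Finset.mem_univ _)
        rw [Complex.normSq_eq_zero] at h1
        simp only [ψ, Chars.indFun_one_eq, map_one, Units.val_one, mul_one, Nat.cast_eq_zero] at h1
        exact Subgroup.index_ne_zero_of_finite h1
      · exact h0
    have htot : ∑ ν, ∑ μ, k ν μ = Nat.card (Q →* ℂˣ) := by
      have hQ0 : (Nat.card Q : ℂ) ≠ 0 := Nat.cast_ne_zero.mpr Nat.card_pos.ne'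
      simp only [implies_true, if_true, Finset.sum_const, Finset.card_univ,
        Fintype.card_eq_nat_card, nsmul_eq_mul, mul_one, inv_mul_cancel_left₀ hQ0] at hnorm
      rw [← hsum, Chars.classInner_sum_left] at hnorm
      simp only [Chars.classInner_sum_right, hk] at hnorm
      apply Nat.cast_injective (R := ℂ)
      push_cast
      rw [hnorm, hnQ]
    have hirr : ∀ ν, IsIrrCharacter (RegularWreathProduct A Q) (ψ ν) := by
      intro ν
      rw [Chars.isIrrCharacter_iff_classInner_eq_one (hchar ν), hk ν ν, ← Nat.cast_one,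
        Nat.cast_inj]
      have hle : ∑ μ : Q →* ℂˣ, k μ μ ≤ ∑ _μ : Q →* ℂˣ, 1 := by
        rw [Finset.sum_const, Finset.card_univ, smul_eq_mul, mul_one, Fintype.card_eq_nat_card,
          ← htot]
        exact Finset.sum_le_sum fun μ _ =>
          Finset.single_le_sum (fun _ _ => Nat.zero_le _) (Finset.mem_univ μ)
      have heq := le_antisymm (Finset.sum_le_sum fun μ _ => hk1 μ) hle
      exact ((Finset.sum_eq_sum_iff_of_le fun μ _ => hk1 μ).mp heq ν (Finset.mem_univ _)).symm
    rw [← hsum, Chars.classInner_sum_left] at hθ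
    obtain ⟨ν, -, hν⟩ := Finset.exists_ne_zero_of_sum_ne_zero hθ
    exact ⟨_, _, hirr_eq _ (hirr ν) hν⟩
  · -- induced from the base
    have hinj : ∀ q r : Q, (∀ i, θ (q⁻¹ * i) = θ (r⁻¹ * i)) ↔ q = r := by
      refine fun q r => ⟨fun h => ?_, fun h => h ▸ fun _ => rfl⟩
      by_contra hqr
      let T : Subgroup Q :=
        { carrier := {t | ∀ i, θ (t * i) = θ i}
          one_mem' := fun i => by rw [one_mul]
          mul_mem' := fun {a b} ha hb i => by rw [mul_assoc, ha, hb]
          inv_mem' := fun {a} ha i => by rw [← ha (a⁻¹ * i), mul_inv_cancel_left] }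
      have hs : r⁻¹ * q ∈ T := fun i => by
        have := h (q * i)
        rw [inv_mul_cancel_left, ← mul_assoc] at this
        exact this.symm
      have hne : r⁻¹ * q ≠ 1 := fun e => hqr (inv_mul_eq_one.mp e).symm
      have htop := zpowers_eq_top_of_prime_card hQ hne
      apply hconst
      intro i
      have hi : i ∈ T := Subgroup.zpowers_le.mpr hs (htop ▸ Subgroup.mem_top i)
      simpa using hi 1
    have hQ0 : (Nat.card Q : ℂ) ≠ 0 := Nat.cast_ne_zero.mpr Nat.card_pos.ne'
    simp only [hinj, Finset.sum_ite_eq, Finset.mem_univ, if_true, Finset.sum_const,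
      Finset.card_univ, Fintype.card_eq_nat_card, nsmul_eq_mul, mul_one,
      inv_mul_cancel₀ hQ0] at hnorm
    have hch : IsCharacter (RegularWreathProduct A Q) (indBase fun i => (θ i : A → ℂ)) := by
      rw [hind]
      exact Chars.isCharacter_indFun _ (Chars.isCharacter_hom _)
    have := (Chars.isIrrCharacter_iff_classInner_eq_one hch).mpr hnorm
    exact ⟨_, _, (hirr_eq _ this hθ).trans hind⟩

end Cfsg.Agent.Lib.MGroup
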